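import Groth.Prelude.Def_ega3
import Groth.Prelude.Def_Pi1
import Groth.Agent.Lib.AffGrp19.Basic
import Groth.Agent.Lib.VarDim.Top
import Groth.Agent.Lib.VarDim.Irred
import Groth.Agent.Lib.H12.Dim
import Mathlib

/-!
# Fibrations and birational morphisms
-/

set_option autoImplicit false
set_option backward.isDefEq.respectTransparency false
set_option backward.isDefEq.respectTransparency.types false

universe u

open CategoryTheory CategoryTheory.Limits AlgebraicGeometry

noncomputable section

namespace Groth.Agent.Fibration13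

variable {X Y : Scheme.{u}} [IsIntegral X] [IsIntegral Y] (f : X ⟶ Y)

theorem stalkToFunctionField_germ (h : f.base (genericPoint X) ⤳ genericPoint Y) {U : Y.Opens}
    (hη : genericPoint Y ∈ U) (a : Γ(Y, U)) (hξ : genericPoint X ∈ f ⁻¹ᵁ U) :
    CohIII.stalkToFunctionField f (genericPoint Y) h (Y.presheaf.germ U (genericPoint Y) hη a) =
      X.presheaf.germ (f ⁻¹ᵁ U) (genericPoint X) hξ (f.app U a) := by
  rw [CohIII.stalkToFunctionField, RingHom.comp_apply]
  change (f.stalkMap (genericPoint X)) ((Y.presheaf.stalkSpecializes h) (Y.presheaf.germ U _ hη a)) = _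
  rw [TopCat.Presheaf.germ_stalkSpecializes_apply, Scheme.Hom.germ_stalkMap_apply]

theorem fgen (h : f.base (genericPoint X) ⤳ genericPoint Y) : f (genericPoint X) = genericPoint Y :=
  (Specializes.antisymm h (genericPoint_specializes _)).eq

theorem mem_preimage (h : f.base (genericPoint X) ⤳ genericPoint Y) {U : Y.Opens} (hU : (U : Set Y).Nonempty) :
    genericPoint X ∈ f ⁻¹ᵁ U := by
  have : genericPoint Y ∈ U := ((genericPoint_spec Y).mem_open_set_iff U.2).2 (by simpa using hU)
  change f (genericPoint X) ∈ U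
  rw [fgen f h]
  exact this

theorem isIntegral_app {X Y : Scheme.{u}} (f : X ⟶ Y) [UniversallyClosed f] {U : Y.Opens} (hU : IsAffineOpen U) :
    (f.app U).hom.IsIntegral := by
  haveI : IsAffine U.toScheme := hU
  haveI : UniversallyClosed (f ∣_ U) := IsZariskiLocalAtTarget.restrict ‹_› U
  have h1 := isIntegral_appTop_of_universallyClosed (f ∣_ U)
  rw [morphismRestrict_appTop] at h1
  have aux : ∀ (U' : Y.Opens), U' = U → ∀ (W : X.Opens) (e2 : W = f ⁻¹ᵁ U'),
      (f.app U' ≫ X.presheaf.map (eqToHom e2).op).hom.IsIntegral → (f.app U).hom.IsIntegral := by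
    intro U' e W e2 h
    subst e e2
    simpa using h
  exact aux _ U.ι_image_top _ _ h1

/-- A proper morphism to a normal scheme whose function field is algebraically closed upstairs is a
fibration. -/
theorem bijective_app_of_algClosed [UniversallyClosed f] (hY : Pi1.IsNormalScheme Y)
    (h : f.base (genericPoint X) ⤳ genericPoint Y)
    (hc : ∀ x : X.functionField, (CohIII.stalkToFunctionField f (genericPoint Y) h).IsIntegralElem x →
      x ∈ (CohIII.stalkToFunctionField f (genericPoint Y) h).range) (U : Y.Opens) :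
    Function.Bijective (f.app U) := by
  have hinj : Function.Injective (CohIII.stalkToFunctionField f (genericPoint Y) h) :=
    (CohIII.stalkToFunctionField f (genericPoint Y) h : Y.functionField →+* X.functionField).injective
  refine AffGrp19.bijective_app_of_isBasis f (fun U : Y.affineOpens => U.1)
    (by rw [Subtype.range_coe]; exact Y.isBasis_affineOpens) (fun U => ?_) U
  obtain ⟨U, hU⟩ := U
  change Function.Bijective (f.app U)
  rcases (U : Set Y).eq_empty_or_nonempty with he | hne
  · obtain rfl : U = ⊥ := TopologicalSpace.Opens.ext he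
    haveI : Subsingleton Γ(Y, ⊥) := CommRingCat.subsingleton_of_isTerminal Y.sheaf.isTerminalOfEmpty
    haveI : Subsingleton Γ(X, f ⁻¹ᵁ ⊥) := by
      rw [show f ⁻¹ᵁ (⊥ : Y.Opens) = ⊥ from rfl]
      exact CommRingCat.subsingleton_of_isTerminal X.sheaf.isTerminalOfEmpty
    exact ⟨fun _ _ _ => Subsingleton.elim _ _, fun b => ⟨0, Subsingleton.elim _ _⟩⟩
  haveI : Nonempty U := hne.to_subtype
  have hη : genericPoint Y ∈ U := ((genericPoint_spec Y).mem_open_set_iff U.2).2 (by simpa using hne)
  have hξ := mem_preimage f h hne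
  haveI : Nonempty ↥(f ⁻¹ᵁ U) := ⟨⟨_, hξ⟩⟩
  have hinjX := germ_injective_of_isIntegral X (genericPoint X) hξ
  have hinjY := germ_injective_of_isIntegral Y (genericPoint Y) hη
  have key := fun a => stalkToFunctionField_germ f h hη a hξ
  refine ⟨fun a b hab => hinjY (hinj ((key a).trans ((congrArg _ hab).trans (key b).symm))), fun s => ?_⟩
  have hint : (f.app U).hom.IsIntegralElem s := by
    exact isIntegral_app f hU s
  obtain ⟨t, ht⟩ : X.presheaf.germ (f ⁻¹ᵁ U) (genericPoint X) hξ s ∈
      (CohIII.stalkToFunctionField f (genericPoint Y) h).range := by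
    obtain ⟨p, hp, hp0⟩ := hint
    refine hc _ ⟨p.map (Y.presheaf.germ U (genericPoint Y) hη).hom, hp.map _, ?_⟩
    have hcomp : (CohIII.stalkToFunctionField f (genericPoint Y) h).comp (Y.presheaf.germ U (genericPoint Y) hη).hom =
        (X.presheaf.germ (f ⁻¹ᵁ U) (genericPoint X) hξ).hom.comp (f.app U).hom := RingHom.ext key
    rw [Polynomial.eval₂_map, hcomp]
    rw [← Polynomial.hom_eval₂, hp0, map_zero]
  haveI : IsIntegrallyClosed Γ(Y, U) := by
    refine IsIntegrallyClosed.of_localization_maximal fun P hP0 hP => ?_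
    let z : PrimeSpectrum Γ(Y, U) := ⟨P, hP.isPrime⟩
    have hzU : hU.fromSpec z ∈ U := hU.range_fromSpec.le ⟨z, rfl⟩
    letI := Y.presheaf.algebra_section_stalk (⟨hU.fromSpec z, hzU⟩ : U)
    haveI := hU.isLocalization_stalk' z hzU
    obtain ⟨_, hn⟩ := hY (hU.fromSpec z)
    haveI := hn
    exact IsIntegrallyClosed.of_equiv
      (IsLocalization.algEquiv P.primeCompl (Y.presheaf.stalk (hU.fromSpec z)) (Localization.AtPrime P)).toRingEquiv
  haveI : IsFractionRing Γ(Y, U) Y.functionField := functionField_isFractionRing_of_isAffineOpen Y U hU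
  have htint : IsIntegral Γ(Y, U) t := by
    obtain ⟨p, hp, hp0⟩ := hint
    refine ⟨p, hp, hinj ?_⟩
    rw [map_zero, Polynomial.hom_eval₂, ht]
    have hcomp : (CohIII.stalkToFunctionField f (genericPoint Y) h).comp (algebraMap Γ(Y, U) Y.functionField) =
        (X.presheaf.germ (f ⁻¹ᵁ U) (genericPoint X) hξ).hom.comp (f.app U).hom := RingHom.ext key
    rw [hcomp, ← Polynomial.hom_eval₂, hp0, map_zero]
  obtain ⟨a, rfl⟩ := IsIntegrallyClosed.isIntegral_iff.1 htint
  exact ⟨a, hinjX ((key a).symm.trans ht)⟩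

/-- A birational proper morphism to a normal scheme is a fibration. -/
theorem bijective_app_of_birational [UniversallyClosed f] (hY : Pi1.IsNormalScheme Y)
    (h : f.base (genericPoint X) ⤳ genericPoint Y)
    (hb : Function.Bijective (CohIII.stalkToFunctionField f (genericPoint Y) h)) (U : Y.Opens) :
    Function.Bijective (f.app U) :=
  bijective_app_of_algClosed f hY h (fun x _ => hb.2 x) U

omit [IsIntegral Y] in
/-- An element of the function field regular at every point of an open is a section. -/
theorem exists_section {W : X.Opens} (hξ : genericPoint X ∈ W) (x : X.functionField)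
    (hx : ∀ z ∈ W, ∃ a : X.presheaf.stalk z, X.presheaf.stalkSpecializes (genericPoint_specializes z) a = x) :
    ∃ s : Γ(X, W), X.presheaf.germ W (genericPoint X) hξ s = x := by
  have hloc : ∀ z : W, ∃ (O : X.Opens) (hz : z.1 ∈ O) (hηO : genericPoint X ∈ O) (_ : O ≤ W) (s : Γ(X, O)),
      X.presheaf.germ O (genericPoint X) hηO s = x := fun z => by
    obtain ⟨a, ha⟩ := hx z z.2
    obtain ⟨O, hzO, s, rfl⟩ := X.presheaf.exists_germ_eq a
    have hz : z.1 ∈ O ⊓ W := ⟨hzO, z.2⟩
    refine ⟨O ⊓ W, hz, (genericPoint_specializes z.1).mem_open (O ⊓ W).2 hz, inf_le_right,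
      X.presheaf.map (homOfLE inf_le_left).op s, ?_⟩
    rw [TopCat.Presheaf.germ_res_apply, ← ha, TopCat.Presheaf.germ_stalkSpecializes_apply]
  choose O hz hη hle s hs using hloc
  have hcov : W ≤ ⨆ z : W, O z := fun z hzW => TopologicalSpace.Opens.mem_iSup.2 ⟨⟨z, hzW⟩, hz _⟩
  have hc : TopCat.Presheaf.IsCompatible X.sheaf.1 O s := by
    intro i j
    have hm : genericPoint X ∈ O i ⊓ O j := ⟨hη i, hη j⟩
    refine (germ_injective_of_isIntegral X (genericPoint X) hm) ?_
    erw [TopCat.Presheaf.germ_res_apply X.presheaf (TopologicalSpace.Opens.infLELeft _ _) _ hm (s i),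
      TopCat.Presheaf.germ_res_apply X.presheaf (TopologicalSpace.Opens.infLERight _ _) _ hm (s j)]
    rw [hs, hs]
  obtain ⟨t, ht, -⟩ := X.sheaf.existsUnique_gluing' O W (fun z => homOfLE (hle z)) hcov s hc
  let i₀ : W := ⟨genericPoint X, hξ⟩
  refine ⟨t, ?_⟩
  rw [← hs i₀, ← ht i₀]
  exact (TopCat.Presheaf.germ_res_apply X.presheaf (homOfLE (hle i₀)) _ (hη i₀) t).symm

/-- The function field of the base of a fibration out of a normal scheme is algebraically closed. -/
theorem algClosed_of_fibration (hX : Pi1.IsNormalScheme X) (h : f.base (genericPoint X) ⤳ genericPoint Y)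
    (hf : ∀ U : Y.Opens, IsIso (f.app U)) (x : X.functionField)
    (hx : (CohIII.stalkToFunctionField f (genericPoint Y) h).IsIntegralElem x) :
    x ∈ (CohIII.stalkToFunctionField f (genericPoint Y) h).range := by
  obtain ⟨U, hU, hηU, -⟩ := exists_isAffineOpen_mem_and_subset (X := Y) (x := genericPoint Y) (U := ⊤) trivial
  haveI : Nonempty U := ⟨⟨_, hηU⟩⟩
  haveI : IsFractionRing Γ(Y, U) Y.functionField := functionField_isFractionRing_of_isAffineOpen Y U hU
  have hξ := mem_preimage f h (U := U) ⟨_, hηU⟩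
  let ψ : Y.functionField →+* X.functionField := CohIII.stalkToFunctionField f (genericPoint Y) h
  letI : Algebra Γ(Y, U) X.functionField := (ψ.comp (algebraMap Γ(Y, U) Y.functionField)).toAlgebra
  letI : Algebra Y.functionField X.functionField := ψ.toAlgebra
  haveI : IsScalarTower Γ(Y, U) Y.functionField X.functionField := IsScalarTower.of_algebraMap_eq' rfl
  have hxi : IsIntegral Y.functionField x := hx
  obtain ⟨⟨c, hc⟩, hcx⟩ := IsIntegral.exists_multiple_integral_of_isLocalization (nonZeroDivisors Γ(Y, U)) x hxi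
  rw [Submonoid.smul_def, Algebra.smul_def] at hcx
  obtain ⟨s, hs⟩ := exists_section (W := f ⁻¹ᵁ U) hξ _ (fun z hz => by
    obtain ⟨_, hn⟩ := hX z
    haveI := hn
    letI : Algebra (X.presheaf.stalk z) X.functionField :=
      (X.presheaf.stalkSpecializes (genericPoint_specializes z)).hom.toAlgebra
    haveI : IsFractionRing (X.presheaf.stalk z) X.functionField := inferInstance
    letI : Algebra Γ(Y, U) (X.presheaf.stalk z) := ((X.presheaf.germ (f ⁻¹ᵁ U) z hz).hom.comp (f.app U).hom).toAlgebra
    haveI : IsScalarTower Γ(Y, U) (X.presheaf.stalk z) X.functionField := IsScalarTower.of_algebraMap_eq fun r => by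
      change ψ (Y.presheaf.germ U _ hηU r) =
        X.presheaf.stalkSpecializes (genericPoint_specializes z) (X.presheaf.germ (f ⁻¹ᵁ U) z hz (f.app U r))
      rw [TopCat.Presheaf.germ_stalkSpecializes_apply]
      exact stalkToFunctionField_germ f h hηU r hξ
    exact IsIntegrallyClosed.isIntegral_iff.1 (hcx.tower_top (A := X.presheaf.stalk z)))
  haveI := hf U
  obtain ⟨a, rfl⟩ := (ConcreteCategory.bijective_of_isIso (f.app U)).2 s
  have hc0 : algebraMap Γ(Y, U) Y.functionField c ≠ 0 :=
    IsFractionRing.to_map_ne_zero_of_mem_nonZeroDivisors hc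
  refine ⟨algebraMap Γ(Y, U) Y.functionField a / algebraMap Γ(Y, U) Y.functionField c, ?_⟩
  change ψ _ = x
  rw [map_div₀, div_eq_iff (by simpa using hc0), mul_comm]
  exact ((stalkToFunctionField_germ f h hηU a hξ).trans hs)

/-- An affine preimage of a nonempty affine open makes a fibration birational. -/
theorem bijective_of_preimage (h : f.base (genericPoint X) ⤳ genericPoint Y)
    (hf : ∀ U : Y.Opens, IsIso (f.app U)) {V : Y.Opens} (hV : IsAffineOpen V) (hne : (V : Set Y).Nonempty)
    (hW : IsAffineOpen (f ⁻¹ᵁ V)) :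
    Function.Bijective (CohIII.stalkToFunctionField f (genericPoint Y) h) := by
  have hη : genericPoint Y ∈ V := ((genericPoint_spec Y).mem_open_set_iff V.2).2 (by simpa using hne)
  have hξ := mem_preimage f h hne
  haveI : Nonempty V := hne.to_subtype
  haveI : Nonempty ↥(f ⁻¹ᵁ V) := ⟨⟨_, hξ⟩⟩
  haveI : IsFractionRing Γ(Y, V) Y.functionField := functionField_isFractionRing_of_isAffineOpen Y V hV
  letI : Algebra Γ(X, f ⁻¹ᵁ V) X.functionField := (X.presheaf.germ (f ⁻¹ᵁ V) (genericPoint X) hξ).hom.toAlgebra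
  haveI : IsFractionRing Γ(X, f ⁻¹ᵁ V) X.functionField :=
    @functionField_isFractionRing_of_isAffineOpen X _ (f ⁻¹ᵁ V) hW ⟨⟨_, hξ⟩⟩
  haveI := hf V
  have hsurj : Function.Surjective (f.app V) := (ConcreteCategory.bijective_of_isIso (f.app V)).2
  have key := fun a => stalkToFunctionField_germ f h hη a hξ
  refine ⟨RingHom.injective _, fun x => ?_⟩
  obtain ⟨a, b, hb, rfl⟩ := IsFractionRing.div_surjective (A := Γ(X, f ⁻¹ᵁ V)) x
  obtain ⟨a', rfl⟩ := hsurj a
  obtain ⟨b', rfl⟩ := hsurj b
  refine ⟨algebraMap _ _ a' / algebraMap _ _ b', ?_⟩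
  rw [map_div₀]
  exact congrArg₂ (· / ·) (key a') (key b')

theorem bijective_of_fibration {k : Type u} [Field k] (p : X ⟶ Spec (CommRingCat.of k)) [LocallyOfFiniteType p]
    [QuasiCompact p] [Y.IsSeparated] [UniversallyClosed f]
    (hdim : topologicalKrullDim X = topologicalKrullDim Y) (h : f.base (genericPoint X) ⤳ genericPoint Y)
    (hf : ∀ U : Y.Opens, IsIso (f.app U)) :
    Function.Bijective (CohIII.stalkToFunctionField f (genericPoint Y) h) := by
  have hclosed : IsClosedMap f := f.isClosedMap
  have huniq : ∀ x : X, f x = genericPoint Y → x = genericPoint X := by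
    intro x hx
    by_contra hne
    let g : closure ({x} : Set X) → Y := fun z => f z.1
    have hg : Function.Surjective g := by
      intro y
      have hmem : y ∈ f '' closure {x} := by
        have hc := hclosed _ (isClosed_closure (s := ({x} : Set X)))
        exact (genericPoint_specializes y).mem_closed hc ⟨x, subset_closure rfl, hx⟩
      obtain ⟨z, hz, rfl⟩ := hmem
      exact ⟨⟨z, hz⟩, rfl⟩
    have hgc : IsClosedMap g := hclosed.comp isClosed_closure.isClosedEmbedding_subtypeVal.isClosedMap
    haveI : QuasiSober (closure ({x} : Set X)) := isClosed_closure.isClosedEmbedding_subtypeVal.quasiSober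
    have hle := H12.topologicalKrullDim_le_of_surjective_of_lift g hg (Or.inl hgc.specializingMap)
    rw [← hdim, VarDim.topologicalKrullDim_closure_singleton,
      VarDim.topologicalKrullDim_eq_height_genericPoint, WithBot.coe_le_coe] at hle
    have hlt : x < genericPoint X := VarDim.lt_of_specializes_ne (genericPoint_specializes x) hne
    have hfin : Order.height x < ⊤ := by
      obtain ⟨z, hz, -⟩ := VarDim.exists_dim_eq p
      have h1 : ((Order.height x : ℕ∞) : WithBot ℕ∞) ≤ topologicalKrullDim X := by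
        rw [VarDim.topologicalKrullDim_eq_height_genericPoint]
        exact WithBot.coe_le_coe.2 (Order.height_mono hlt.le)
      rw [hz] at h1
      exact lt_of_le_of_lt (WithBot.coe_le_coe.1 h1) (ENat.coe_lt_top _)
    exact absurd hle (not_le.2 (Order.height_strictMono hlt hfin))
  obtain ⟨W, hW, hξW, -⟩ := exists_isAffineOpen_mem_and_subset (X := X) (x := genericPoint X) (U := ⊤) trivial
  let O : Y.Opens := ⟨(f '' (W : Set X)ᶜ)ᶜ, (hclosed _ W.2.isClosed_compl).isOpen_compl⟩
  have hηO : genericPoint Y ∈ O := by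
    rintro ⟨z, hz, hz'⟩
    exact hz (huniq z hz' ▸ hξW)
  obtain ⟨V, hV, hηV, hVO⟩ := exists_isAffineOpen_mem_and_subset (X := Y) (x := genericPoint Y) (U := O) hηO
  refine bijective_of_preimage f h hf hV ⟨_, hηV⟩ ?_
  have hle : f ⁻¹ᵁ V ≤ W := fun z hz => by
    by_contra hzW
    exact hVO hz ⟨z, hzW, rfl⟩
  haveI : IsAffine W.toScheme := hW
  haveI : Y.IsSeparated := inferInstance
  haveI : IsAffineHom ((W.ι ≫ f) ≫ terminal.from Y) := inferInstance
  haveI : IsAffineHom (W.ι ≫ f) := IsAffineHom.of_comp _ (terminal.from Y)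
  have := hV.preimage (W.ι ≫ f)
  rw [Scheme.Hom.comp_preimage] at this
  have h2 := this.image_of_isOpenImmersion W.ι
  rwa [Scheme.Hom.image_preimage_eq_opensRange_inf, Scheme.Opens.opensRange_ι, inf_eq_right.2 hle] at h2

end Groth.Agent.Fibration13
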